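import Mathlib.RingTheory.Invariant.Profinite
import Mathlib.FieldTheory.Galois.Infinite
import Mathlib.FieldTheory.Galois.Profinite
import Mathlib.FieldTheory.IsAlgClosed.Basic
import Mathlib.RingTheory.IntegralClosure.IntegrallyClosed
import Mathlib.RingTheory.Spectrum.Prime.Topology

/-!
# Averaging locally constant functions on the spectrum of an integral closure over the Galois group
-/

set_option autoImplicit false
set_option linter.unusedSectionVars false
set_option linter.style.haveILetI false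
set_option maxHeartbeats 1000000

universe u

open Topology

noncomputable section

namespace HensNonVanLib

variable {R : Type u} [CommRing R] (L : Type u) [Field L] [Algebra R L] (K : Type u) [Field K] [Algebra L K]
  [Algebra R K] [IsScalarTower R L K]

/-- The action of a Galois element on the integral closure. -/
def σA (g : K ≃ₐ[L] K) : integralClosure R K →+* integralClosure R K where
  toFun d := ⟨g (d : K), d.2.map (g.toAlgHom.restrictScalars R)⟩
  map_one' := Subtype.ext (map_one g)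
  map_mul' a b := Subtype.ext (map_mul g (a : K) b)
  map_zero' := Subtype.ext (map_zero g)
  map_add' a b := Subtype.ext (map_add g (a : K) b)

/-- The action on primes. -/
def act (g : K ≃ₐ[L] K) (q : PrimeSpectrum (integralClosure R K)) : PrimeSpectrum (integralClosure R K) :=
  PrimeSpectrum.comap (σA L K g) q

theorem mem_act (g : K ≃ₐ[L] K) (q : PrimeSpectrum (integralClosure R K)) (d : integralClosure R K) :
    d ∈ (act L K g q).asIdeal ↔ σA L K g d ∈ q.asIdeal := Iff.rfl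

theorem act_act (g h : K ≃ₐ[L] K) (q : PrimeSpectrum (integralClosure R K)) :
    act L K g (act L K h q) = act L K (h * g) q :=
  PrimeSpectrum.ext (Ideal.ext fun _ => Iff.rfl)

/-- The map to the base. -/
abbrev res₀ (q : PrimeSpectrum (integralClosure R K)) : PrimeSpectrum R :=
  PrimeSpectrum.comap (algebraMap R (integralClosure R K)) q

theorem res₀_act (g : K ≃ₐ[L] K) (q : PrimeSpectrum (integralClosure R K)) :
    res₀ K (act L K g q) = res₀ K q := by
  refine PrimeSpectrum.ext (Ideal.ext fun r => ?_)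
  show σA L K g (algebraMap R (integralClosure R K) r) ∈ q.asIdeal ↔ algebraMap R (integralClosure R K) r ∈ q.asIdeal
  rw [show σA L K g (algebraMap R (integralClosure R K) r) = algebraMap R (integralClosure R K) r from
    Subtype.ext ((g.toAlgHom.restrictScalars R).commutes r)]

variable [IsDomain R] [IsIntegrallyClosed R] [IsFractionRing R L] [IsGalois L K]

theorem exists_act_eq (q q' : PrimeSpectrum (integralClosure R K)) (h : res₀ K q = res₀ K q') :
    ∃ g : K ≃ₐ[L] K, q' = act L K g q := by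
  let D := integralClosure R K
  let G := K ≃ₐ[L] K
  let _ : MulSemiringAction G D :=
    { smul := fun σ d => σA L K σ d
      one_smul := fun d => Subtype.ext rfl
      mul_smul := fun σ τ d => Subtype.ext rfl
      smul_zero := fun σ => map_zero (σA L K σ)
      smul_add := fun σ a b => map_add (σA L K σ) a b
      smul_one := fun σ => map_one (σA L K σ)
      smul_mul := fun σ a b => map_mul (σA L K σ) a b }
  have : SMulCommClass G R D := ⟨fun σ r d => Subtype.ext (by
    show σ (r • (d : K)) = r • σ (d : K)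
    exact map_smul (σ.toAlgHom.restrictScalars R) r (d : K))⟩
  have : Algebra.IsInvariant R D G := ⟨fun d hd => by
    obtain ⟨l, hl⟩ : (d : K) ∈ (⊥ : IntermediateField L K) :=
      (InfiniteGalois.mem_bot_iff_fixed (d : K)).2 fun σ => congrArg Subtype.val (hd σ)
    have hint : IsIntegral R l := by
      refine (isIntegral_algHom_iff (IsScalarTower.toAlgHom R L K) (algebraMap L K).injective).1 ?_
      exact hl.symm ▸ d.2
    obtain ⟨b, hb⟩ := IsIntegrallyClosed.isIntegral_iff.1 hint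
    refine ⟨b, Subtype.ext ?_⟩
    show algebraMap R K b = (d : K)
    rw [IsScalarTower.algebraMap_apply R L K, hb]; exact hl⟩
  let _ : TopologicalSpace D := ⊥
  have : DiscreteTopology D := ⟨rfl⟩
  have : ContinuousSMul G D := continuousSMul_iff_stabilizer_isOpen.2 fun d => by
    have h : (MulAction.stabilizer G d : Set G) = (MulAction.stabilizer G (d : K) : Set G) := by
      ext σ
      exact ⟨fun h => congrArg Subtype.val h, fun h => Subtype.ext h⟩
    rw [h]
    exact stabilizer_isOpen_of_isIntegral (K := L) (d : K)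
  obtain ⟨σ, hσ⟩ := Algebra.IsInvariant.exists_smul_of_under_eq_of_profinite (A := R) (G := G) q.asIdeal q'.asIdeal
    (congrArg PrimeSpectrum.asIdeal h)
  refine ⟨σ⁻¹, PrimeSpectrum.ext (Ideal.ext fun d => ?_)⟩
  rw [mem_act, hσ, Ideal.mem_pointwise_smul_iff_inv_smul_mem]
  rfl

/-- Locally constant functions on compact sets are determined by finitely many elements. -/
theorem exists_finset_determines {S : Type u} [CommRing S] {W : Set (PrimeSpectrum S)} (hW : IsCompact W)
    {β : Type*} (f : PrimeSpectrum S → β) (hf : ∀ q ∈ W, ∃ V : Set (PrimeSpectrum S), IsOpen V ∧ q ∈ V ∧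
      ∀ q' ∈ V ∩ W, f q' = f q) :
    ∃ D : Finset S, ∀ q ∈ W, ∀ q' ∈ W, (∀ d ∈ D, (d ∈ q.asIdeal ↔ d ∈ q'.asIdeal)) → f q = f q' := by
  classical
  have h : ∀ q : W, ∃ d : S, (q : PrimeSpectrum S) ∈ PrimeSpectrum.basicOpen d ∧
      ∀ q' ∈ (PrimeSpectrum.basicOpen d : Set (PrimeSpectrum S)) ∩ W, f q' = f q := fun q => by
    obtain ⟨V, hV, hqV, hVf⟩ := hf q q.2
    obtain ⟨_, ⟨d, rfl⟩, hqd, hdV⟩ := PrimeSpectrum.isTopologicalBasis_basic_opens.exists_subset_of_mem_open hqV hV
    exact ⟨d, hqd, fun q' hq' => hVf q' ⟨hdV hq'.1, hq'.2⟩⟩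
  choose d hqd hd using h
  obtain ⟨T, hT⟩ := hW.elim_finite_subcover (fun q : W => (PrimeSpectrum.basicOpen (d q) : Set (PrimeSpectrum S)))
    (fun q => (PrimeSpectrum.basicOpen (d q)).isOpen) (fun q hq => Set.mem_iUnion.2 ⟨⟨q, hq⟩, hqd ⟨q, hq⟩⟩)
  refine ⟨T.image d, fun q hq q' hq' hD => ?_⟩
  obtain ⟨i, hi, hqi⟩ := Set.mem_iUnion₂.1 (hT hq)
  have hq'i : q' ∈ PrimeSpectrum.basicOpen (d i) := fun h' => hqi ((hD _ (Finset.mem_image_of_mem d hi)).2 h')
  rw [hd i q ⟨hqi, hq⟩, hd i q' ⟨hq'i, hq'⟩]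

theorem exists_lift_spec (hinj : Function.Injective (algebraMap R K)) {P P' : PrimeSpectrum R}
    (h : P.asIdeal ≤ P'.asIdeal) : ∃ q q' : PrimeSpectrum (integralClosure R K),
      q.asIdeal ≤ q'.asIdeal ∧ res₀ K q = P ∧ res₀ K q' = P' := by
  obtain ⟨Q, -, hQ, hQP⟩ := Ideal.exists_ideal_over_prime_of_isIntegral P.asIdeal (⊥ : Ideal (integralClosure R K))
    (fun x hx => by
      rw [Ideal.mem_comap, Ideal.mem_bot] at hx
      rw [hinj ((congrArg Subtype.val hx).trans (map_zero (algebraMap R K)).symm)]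
      exact zero_mem _)
  obtain ⟨Q', hQQ', hQ', hQ'P⟩ := Ideal.exists_ideal_over_prime_of_isIntegral P'.asIdeal Q (hQP.le.trans h)
  exact ⟨⟨Q, hQ⟩, ⟨Q', hQ'⟩, hQQ', PrimeSpectrum.ext hQP, PrimeSpectrum.ext hQ'P⟩

include L in
/-- Averaging two locally constant functions to functions on the base. -/
theorem exists_average {β : Type*} [AddCommGroup β] (hinj : Function.Injective (algebraMap R K))
    (W₁ W₂ : Set (PrimeSpectrum R)) (hW₁ : IsCompact (res₀ K ⁻¹' W₁)) (hW₂ : IsCompact (res₀ K ⁻¹' W₂))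
    (f₁ f₂ : PrimeSpectrum (integralClosure R K) → β)
    (hf₁ : ∀ q ∈ res₀ K ⁻¹' W₁, ∃ V : Set (PrimeSpectrum (integralClosure R K)), IsOpen V ∧ q ∈ V ∧
      ∀ q' ∈ V ∩ res₀ K ⁻¹' W₁, f₁ q' = f₁ q)
    (hf₂ : ∀ q ∈ res₀ K ⁻¹' W₂, ∃ V : Set (PrimeSpectrum (integralClosure R K)), IsOpen V ∧ q ∈ V ∧
      ∀ q' ∈ V ∩ res₀ K ⁻¹' W₂, f₂ q' = f₂ q) :
    ∃ (n : ℕ) (H₁ H₂ : PrimeSpectrum R → β), 0 < n ∧
      (∀ P P' : PrimeSpectrum R, P.asIdeal ≤ P'.asIdeal → P ∈ W₁ → P' ∈ W₁ → H₁ P = H₁ P') ∧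
      (∀ P P' : PrimeSpectrum R, P.asIdeal ≤ P'.asIdeal → P ∈ W₂ → P' ∈ W₂ → H₂ P = H₂ P') ∧
      ∀ (P : PrimeSpectrum R) (c : β), P ∈ W₁ → P ∈ W₂ →
        (∀ q, res₀ K q = P → f₁ q - f₂ q = c) → H₁ P - H₂ P = n • c := by
  classical
  obtain ⟨D₁, hD₁⟩ := exists_finset_determines hW₁ f₁ hf₁
  obtain ⟨D₂, hD₂⟩ := exists_finset_determines hW₂ f₂ hf₂
  let G := K ≃ₐ[L] K
  haveI : Algebra.IsIntegral L K := Algebra.IsAlgebraic.isIntegral
  let N : Subgroup G := ⨅ d ∈ D₁ ∪ D₂, MulAction.stabilizer G ((d : integralClosure R K) : K)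
  have hN : IsOpen (N : Set G) := by
    simp only [N, Subgroup.coe_iInf]
    exact isOpen_biInter_finset fun d _ => stabilizer_isOpen_of_isIntegral (K := L) _
  haveI : Finite (G ⧸ N) := Subgroup.quotient_finite_of_isOpen N hN
  letI := Fintype.ofFinite (G ⧸ N)
  let avg (f : PrimeSpectrum (integralClosure R K) → β) (q : PrimeSpectrum (integralClosure R K)) : β :=
    ∑ c : G ⧸ N, f (act L K c.out q)
  have hfix : ∀ (g g' : G), (QuotientGroup.mk g : G ⧸ N) = QuotientGroup.mk g' → ∀ d ∈ D₁ ∪ D₂,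
      σA L K g d = σA L K g' d := fun g g' he d hd => by
    have h1 : g⁻¹ * g' ∈ N := QuotientGroup.eq.1 he
    have h2 : (g⁻¹ * g') • (d : K) = (d : K) := by
      simp only [N, Subgroup.mem_iInf, MulAction.mem_stabilizer_iff] at h1
      exact h1 d hd
    refine Subtype.ext ?_
    show g (d : K) = g' (d : K)
    conv_lhs => rw [← h2, mul_smul]
    exact g.apply_symm_apply _
  have hinv : ∀ (W : Set (PrimeSpectrum R)) (f : PrimeSpectrum (integralClosure R K) → β) (D : Finset (integralClosure R K)),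
      D ⊆ D₁ ∪ D₂ →
      (∀ q ∈ res₀ K ⁻¹' W, ∀ q' ∈ res₀ K ⁻¹' W, (∀ d ∈ D, (d ∈ q.asIdeal ↔ d ∈ q'.asIdeal)) → f q = f q') →
      ∀ q q', res₀ K q ∈ W → res₀ K q = res₀ K q' → avg f q = avg f q' := by
    intro W f D hD hdet q q' hq hqq'
    obtain ⟨γ, rfl⟩ := exists_act_eq L K q q' hqq'
    simp only [avg, act_act]
    symm
    refine Fintype.sum_equiv (MulAction.toPerm γ) _ _ fun c => hdet _ ?_ _ ?_ fun d hd => ?_
    · show res₀ K (act L K _ q) ∈ W
      rwa [res₀_act]
    · show res₀ K (act L K _ q) ∈ W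
      rwa [res₀_act]
    · have he : (QuotientGroup.mk (γ * c.out) : G ⧸ N) = QuotientGroup.mk ((MulAction.toPerm γ c).out : G) := by
        refine Eq.trans ?_ (QuotientGroup.out_eq' (γ • c)).symm
        conv_rhs => rw [← QuotientGroup.out_eq' c]
        rfl
      rw [mem_act, mem_act, hfix _ _ he d (hD hd)]
  choose lift hlift using fun P : PrimeSpectrum R =>
    (show ∃ q, res₀ K q = P from let ⟨q, _, _, hq, _⟩ := exists_lift_spec K hinj (le_refl P.asIdeal); ⟨q, hq⟩)
  have hmono : ∀ (W : Set (PrimeSpectrum R)) (f : PrimeSpectrum (integralClosure R K) → β) (D : Finset (integralClosure R K)),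
      D ⊆ D₁ ∪ D₂ →
      (∀ q ∈ res₀ K ⁻¹' W, ∀ q' ∈ res₀ K ⁻¹' W, (∀ d ∈ D, (d ∈ q.asIdeal ↔ d ∈ q'.asIdeal)) → f q = f q') →
      (∀ q ∈ res₀ K ⁻¹' W, ∃ V : Set (PrimeSpectrum (integralClosure R K)), IsOpen V ∧ q ∈ V ∧
        ∀ q' ∈ V ∩ res₀ K ⁻¹' W, f q' = f q) →
      ∀ P P' : PrimeSpectrum R, P.asIdeal ≤ P'.asIdeal → P ∈ W → P' ∈ W → avg f (lift P) = avg f (lift P') := by
    intro W f D hD hdet hf P P' hPP' hP hP'
    obtain ⟨q, q', hqq', hq, hq'⟩ := exists_lift_spec K hinj hPP'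
    rw [hinv W f D hD hdet (lift P) q (by rw [hlift]; exact hP) ((hlift P).trans hq.symm),
      hinv W f D hD hdet (lift P') q' (by rw [hlift]; exact hP') ((hlift P').trans hq'.symm)]
    refine Finset.sum_congr rfl fun c _ => ?_
    obtain ⟨V, hV, hq'V, hVf⟩ := hf (act L K c.out q') (show res₀ K (act L K c.out q') ∈ W by rw [res₀_act, hq']; exact hP')
    refine hVf _ ⟨?_, show res₀ K (act L K c.out q) ∈ W by rw [res₀_act, hq]; exact hP⟩
    refine ((PrimeSpectrum.le_iff_specializes _ _).1 ?_).mem_open hV hq'V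
    exact (fun d hd => hqq' hd : (act L K c.out q).asIdeal ≤ (act L K c.out q').asIdeal)
  refine ⟨Fintype.card (G ⧸ N), fun P => avg f₁ (lift P), fun P => avg f₂ (lift P), Fintype.card_pos,
    hmono W₁ f₁ D₁ Finset.subset_union_left hD₁ hf₁, hmono W₂ f₂ D₂ Finset.subset_union_right hD₂ hf₂,
    fun P c _ _ hc => ?_⟩
  simp only [avg, ← Finset.sum_sub_distrib]
  rw [Finset.sum_congr rfl fun x _ => hc _ ((res₀_act L K _ _).trans (hlift P)), Finset.sum_const, Finset.card_univ]

end HensNonVanLib
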