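import Groth.Agent.HensVanLib.Comp
import Groth.Agent.HenselLib.Normal
import Mathlib.RingTheory.Polynomial.ScaleRoots
import Mathlib.RingTheory.LocalProperties.Basic

/-!
# A domain exhausted by étale algebras over a normal domain is normal
-/

set_option autoImplicit false
set_option linter.style.haveILetI false
set_option maxHeartbeats 1000000

universe u

open Polynomial HensVanLib

noncomputable section

namespace HensNonVanLib

variable {A : Type u} [CommRing A] {S : Type u} [CommRing S] [Algebra A S]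

theorem exists_stage (hS : IsInd (A := A) S) : ∀ (n : ℕ) (x : ℕ → S),
    ∃ (U : Type u) (_ : CommRing U) (_ : Algebra A U) (_ : Algebra.Etale A U) (φ : U →ₐ[A] S),
      ∀ i < n, x i ∈ φ.range
  | 0, x => by
    obtain ⟨U, _, _, _, φ, -, -⟩ := hS.surj 0
    exact ⟨U, inferInstance, inferInstance, inferInstance, φ, fun i hi => absurd hi (Nat.not_lt_zero i)⟩
  | n + 1, x => by
    obtain ⟨U, _, _, _, φ, hφ⟩ := exists_stage hS n x
    obtain ⟨V, _, _, _, χ, v, hv⟩ := hS.surj (x n)
    obtain ⟨W, _, _, _, a, b, ω, ha, hb⟩ := exists_join φ χ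
    refine ⟨W, inferInstance, inferInstance, inferInstance, ω, fun i hi => ?_⟩
    rcases Nat.lt_succ_iff_lt_or_eq.1 hi with h | rfl
    · obtain ⟨u, hu⟩ := hφ i h
      exact ⟨a u, (AlgHom.congr_fun ha u).trans hu⟩
    · exact ⟨b v, (AlgHom.congr_fun hb v).trans hv⟩

/-- A domain exhausted by étale algebras over a normal domain is normal. -/
theorem isIntegrallyClosed_of_isInd [IsDomain A] [IsIntegrallyClosed A] [IsDomain S] (hS : IsInd (A := A) S) :
    IsIntegrallyClosed S := by
  refine (isIntegrallyClosed_iff (FractionRing S)).2 fun {x} hx => ?_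
  obtain ⟨r, s, hs, rfl⟩ := IsFractionRing.div_surjective (A := S) x
  obtain ⟨p, hp, hpx⟩ := hx
  set ξ : FractionRing S := algebraMap S (FractionRing S) r / algebraMap S (FractionRing S) s with hξ
  have hs0 : s ≠ 0 := nonZeroDivisors.ne_zero hs
  have hsF : algebraMap S (FractionRing S) s ≠ 0 := fun h =>
    hs0 (IsFractionRing.injective S (FractionRing S) (by rw [h, map_zero]))
  have hroot : (p.scaleRoots s).eval r = 0 := by
    apply IsFractionRing.injective S (FractionRing S)
    rw [map_zero, ← eval₂_at_apply,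
      show algebraMap S (FractionRing S) r = algebraMap S (FractionRing S) s * ξ by rw [hξ, mul_div_cancel₀ _ hsF],
      scaleRoots_eval₂_mul, hpx, mul_zero]
  let d := p.natDegree
  let c : ℕ → S := fun i => if i ≤ d then p.coeff i else if i = d + 1 then r else s
  obtain ⟨U, _, _, _, φ, hφ⟩ := exists_stage hS (d + 3) c
  obtain ⟨r', hr'⟩ : ∃ y, φ y = r := by simpa [c] using hφ (d + 1) (by omega)
  obtain ⟨s', hs'⟩ : ∃ y, φ y = s := by simpa [c] using hφ (d + 2) (by omega)
  obtain ⟨q, hq, -, hqm⟩ := lifts_and_natDegree_eq_and_monic (f := φ.toRingHom) (p := p)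
    ((lifts_iff_coeff_lifts p).2 fun i => by
      rcases le_or_gt i d with h | h
      · have := hφ i (by omega)
        simp only [c, if_pos h] at this
        exact this
      · exact ⟨0, by rw [map_zero, coeff_eq_zero_of_natDegree_lt h]⟩) hp
  have hlead : φ.toRingHom q.leadingCoeff ≠ 0 := by rw [hqm.leadingCoeff, map_one]; exact one_ne_zero
  have hz : φ ((q.scaleRoots s').eval r') = 0 := by
    show φ.toRingHom _ = 0
    rw [← eval₂_at_apply, ← eval_map, map_scaleRoots _ _ _ hlead, hq]
    show ((p.scaleRoots (φ s')).eval (φ r')) = 0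
    rw [hs', hr', hroot]
  obtain ⟨U', _, _, _, ψ, φ', hφ', hψ⟩ := hS.ker U φ _ hz
  let J : Ideal S :=
    { carrier := {a | algebraMap S (FractionRing S) a * ξ ∈ (algebraMap S (FractionRing S)).range}
      add_mem' := fun {a b} ha hb => by
        simp only [Set.mem_setOf_eq] at *
        rw [map_add, add_mul]
        exact add_mem ha hb
      zero_mem' := by simp only [Set.mem_setOf_eq]; rw [map_zero, zero_mul]; exact zero_mem _
      smul_mem' := fun a b hb => by
        simp only [Set.mem_setOf_eq, smul_eq_mul] at *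
        rw [map_mul, mul_assoc]
        exact mul_mem ⟨a, rfl⟩ hb }
  suffices hJ : J = ⊤ by
    obtain ⟨y, hy⟩ : (1 : S) ∈ J := hJ ▸ Submodule.mem_top
    exact ⟨y, by rw [hy, map_one, one_mul]⟩
  by_contra hJ
  obtain ⟨m, hm, hJm⟩ := Ideal.exists_le_maximal J hJ
  haveI := hm.isPrime
  let Q : Ideal U' := m.comap φ'.toRingHom
  obtain ⟨hdom, hic⟩ := HenselLib.normal_localization_etale A U' Q
  let B := Localization.AtPrime Q
  let L := FractionRing B
  let r2 : B := algebraMap U' B (ψ r')
  let s2 : B := algebraMap U' B (ψ s')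
  have hs2 : s2 ≠ 0 := fun h => by
    obtain ⟨t, ht⟩ := (IsLocalization.map_eq_zero_iff Q.primeCompl B _).1 h
    have h1 := congrArg φ' ht
    rw [map_mul, map_zero, ← AlgHom.comp_apply, hφ', hs'] at h1
    exact (mul_eq_zero.1 h1).elim (fun h2 => t.2 (show φ' t ∈ m by rw [h2]; exact zero_mem m)) hs0
  let g : U →+* B := (algebraMap U' B).comp ψ.toRingHom
  let q2 := q.map g
  have hq2 : q2.Monic := hqm.map _
  have hroot2 : (q2.scaleRoots s2).eval r2 = 0 := by
    rw [show s2 = g s' from rfl, ← map_scaleRoots _ _ g (by rw [hqm.leadingCoeff, map_one]; exact one_ne_zero),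
      eval_map, show r2 = g r' from rfl, eval₂_at_apply]
    show algebraMap U' B (ψ _) = 0
    rw [hψ, map_zero]
  have hs2L : algebraMap B L s2 ≠ 0 := fun h => hs2 (IsFractionRing.injective B L (by rw [h, map_zero]))
  have hint : IsIntegral B (algebraMap B L r2 / algebraMap B L s2) := by
    refine ⟨q2, hq2, ?_⟩
    have h := congrArg (algebraMap B L) hroot2
    rw [map_zero, ← eval₂_at_apply, show algebraMap B L r2 = algebraMap B L s2 *
      (algebraMap B L r2 / algebraMap B L s2) by rw [mul_div_cancel₀ _ hs2L], scaleRoots_eval₂_mul] at h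
    exact (mul_eq_zero.1 h).resolve_left (pow_ne_zero _ hs2L)
  obtain ⟨b, hb⟩ := IsIntegrallyClosed.isIntegral_iff.1 hint
  rw [eq_div_iff hs2L, ← map_mul] at hb
  have hb' : b * s2 = r2 := IsFractionRing.injective B L hb
  obtain ⟨β, t, rfl⟩ := IsLocalization.exists_mk'_eq Q.primeCompl b
  have hb'' : algebraMap U' B (t * ψ r') = algebraMap U' B (β * ψ s') := by
    rw [map_mul, map_mul, ← show r2 = algebraMap U' B (ψ r') from rfl, ← hb', ← mul_assoc,
      IsLocalization.mk'_spec']
  obtain ⟨t', ht'⟩ := (IsLocalization.eq_iff_exists Q.primeCompl B).1 hb''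
  have h1 := congrArg φ' ht'
  rw [map_mul, map_mul, map_mul, map_mul, ← AlgHom.comp_apply φ' ψ r', ← AlgHom.comp_apply φ' ψ s', hφ', hr', hs'] at h1
  have ht'0 : φ' t' ≠ 0 := fun h2 => t'.2 (show φ' t' ∈ m by rw [h2]; exact zero_mem m)
  have h3 : φ' t * r = φ' β * s := mul_left_cancel₀ ht'0 h1
  refine t.2 (hJm (show φ' t ∈ J from ⟨φ' β, ?_⟩))
  rw [hξ, mul_div_assoc', ← map_mul, h3, map_mul, mul_div_assoc, div_self hsF, mul_one]

end HensNonVanLib
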