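import Groth.Agent.HensNonVanLib.Value
import Groth.Agent.HensNonVanLib.Normal
import Groth.Agent.HensNonVanLib.Gal
import Groth.Agent.HensVanLib.Colim
import Groth.Agent.HenselLib.Perm
import Mathlib.RingTheory.Polynomial.UniqueFactorization
import Mathlib.Analysis.Complex.Polynomial.Basic

/-!
# De Jong's example: affine henselian spectra with non-vanishing first cohomology
-/

set_option autoImplicit false
set_option linter.unusedSectionVars false
set_option linter.style.haveILetI false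
set_option backward.isDefEq.respectTransparency false
set_option backward.isDefEq.respectTransparency.types false
set_option maxHeartbeats 1000000
set_option synthInstance.maxHeartbeats 400000

open CategoryTheory AlgebraicGeometry Opposite TopologicalSpace HensGlueLib MvPolynomial

noncomputable section

namespace HensNonVanLib

/-- The polynomial ring. -/
abbrev P2 : Type := MvPolynomial (Fin 2) ℂ

/-- The third line. -/
abbrev pz : P2 := X 0 + X 1 - 1

/-- The triangle. -/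
abbrev Itri : Ideal P2 := Ideal.span {X 0 * X 1 * (X 0 + X 1 - 1)}

section Points

variable {R : Type} [CommRing R] [Algebra P2 R] (hR : Hens2.IsPairHenselization P2 Itri R)
include hR

theorem exists_extend {D : Type} [CommRing D] (φ : P2 →+* D) (hφ : φ (X 0 * X 1 * pz) = 0) :
    ∃! g : R →+* D, g.comp (algebraMap P2 R) = φ :=
  hR.2 D ⊥ φ (HensSchLib.henselianRing_bot D) (by
    rw [le_bot_iff, Ideal.map_span, Set.image_singleton, Ideal.span_singleton_eq_bot]
    exact hφ)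

/-- The points of the henselization attached to points of the triangle. -/
def pt {D : Type} [CommRing D] [IsDomain D] (φ : P2 →+* D) (hφ : φ (X 0 * X 1 * pz) = 0) : PrimeSpectrum R :=
  ⟨RingHom.ker (exists_extend hR φ hφ).choose, RingHom.ker_isPrime _⟩

theorem mem_pt_iff {D : Type} [CommRing D] [IsDomain D] (φ : P2 →+* D) (hφ : φ (X 0 * X 1 * pz) = 0) (v : P2) :
    algebraMap P2 R v ∈ (pt hR φ hφ).asIdeal ↔ φ v = 0 := by
  show (exists_extend hR φ hφ).choose (algebraMap P2 R v) = 0 ↔ _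
  rw [← RingHom.comp_apply, (exists_extend hR φ hφ).choose_spec.1]

theorem pt_le {D D' : Type} [CommRing D] [IsDomain D] [CommRing D'] [IsDomain D'] (φ : P2 →+* D)
    (hφ : φ (X 0 * X 1 * pz) = 0) (ψ : P2 →+* D') (hψ : ψ (X 0 * X 1 * pz) = 0) (e : D →+* D') (he : e.comp φ = ψ) :
    (pt hR φ hφ).asIdeal ≤ (pt hR ψ hψ).asIdeal := by
  intro r hr
  have : e.comp (exists_extend hR φ hφ).choose = (exists_extend hR ψ hψ).choose :=
    (exists_extend hR ψ hψ).choose_spec.2 _ (by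
      show (e.comp _).comp _ = ψ
      rw [RingHom.comp_assoc, (exists_extend hR φ hφ).choose_spec.1, he])
  show (exists_extend hR ψ hψ).choose r = 0
  rw [← this, RingHom.comp_apply, show (exists_extend hR φ hφ).choose r = 0 from hr, map_zero]

end Points

/-- A point of the plane with polynomial coordinates. -/
abbrev evP {D : Type} [CommRing D] [Algebra ℂ D] (a b : D) : P2 →+* D := (aeval ![a, b]).toRingHom

theorem evP_X0 {D : Type} [CommRing D] [Algebra ℂ D] (a b : D) : evP a b (X 0) = a := by simp [evP]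

theorem evP_X1 {D : Type} [CommRing D] [Algebra ℂ D] (a b : D) : evP a b (X 1) = b := by simp [evP]

theorem evP_pz {D : Type} [CommRing D] [Algebra ℂ D] (a b : D) : evP a b pz = a + b - 1 := by simp [evP]

theorem evP_zero {D : Type} [CommRing D] [Algebra ℂ D] (a b : D) (h : a * b * (a + b - 1) = 0) :
    evP a b (X 0 * X 1 * pz) = 0 := by rw [map_mul, map_mul, evP_X0, evP_X1, evP_pz, h]

theorem comp_evP (c : ℂ) (a b : Polynomial ℂ) :
    (Polynomial.aeval c).toRingHom.comp (evP a b) = evP (a.eval c) (b.eval c) := by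
  refine MvPolynomial.ringHom_ext (fun r => ?_) fun i => ?_
  · simp [evP]
  · fin_cases i <;> simp [evP]

section Spectrum

variable {A : Type} [CommRing A] {I : Ideal A} [HenselianRing A I] {Z : LocallyRingedSpace.{0}}
  {π : Z ⟶ HensSch.specLRS A} (hZ : HensSch.IsSph A I Z π)
include hZ

theorem exists_indicator (W₁ W₂ : Opens Z.toTopCat) (h : ∀ z, z ∈ W₁ → z ∉ W₂) :
    ∃ s : Sec π (W₁ ⊔ W₂), res π le_sup_left s = 1 ∧ res π le_sup_right s = 0 := by
  let U : Bool → Opens Z.toTopCat := fun i => if i then W₁ else W₂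
  let sf : ∀ i, (Z.presheaf.obj (op (U i)) : Type) := fun i => if i then 1 else 0
  have hcompat : TopCat.Presheaf.IsCompatible Z.sheaf.1 U sf := by
    intro i j
    by_cases hij : i = j
    · subst hij; rfl
    · refine TopCat.Presheaf.section_ext Z.sheaf _ _ _ fun x hx => ?_
      exfalso
      cases i <;> cases j
      · exact hij rfl
      · exact h x hx.2 hx.1
      · exact h x hx.1 hx.2
      · exact hij rfl
  obtain ⟨s, hs, -⟩ := Z.sheaf.existsUnique_gluing' U (W₁ ⊔ W₂)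
    (fun i => homOfLE (by cases i <;> simp [U])) (fun x hx => by
      rcases hx with hx | hx
      · exact Opens.mem_iSup.2 ⟨true, hx⟩
      · exact Opens.mem_iSup.2 ⟨false, hx⟩) sf hcompat
  exact ⟨s, hs true, hs false⟩

theorem exists_diff (h : Subsingleton (ModSite.HC Z.sheaf (ModSite.unit Z.sheaf) 1)) (U V : Opens Z.toTopCat)
    (hUV : U ⊔ V = ⊤) (s : Sec π (U ⊓ V)) :
    ∃ (a : Sec π U) (b : Sec π V), res π inf_le_left a - res π inf_le_right b = s :=
  exists_sub_eq (X := Z.toTopCat) (ModSite.toAb (ModSite.unit Z.sheaf)) h U V hUV s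

variable [IsDomain A] [IsIntegrallyClosed A] (K : Type) [Field K] [Algebra A K] [IsFractionRing A K]
  [IsSepClosed (FractionRing A)]

theorem exists_fun (W : Set (PrimeSpectrum A)) {U : Opens Z.toTopCat} (a : Sec π U)
    (hW : ∀ q ∈ W, ∃ z, z ∈ U ∧ π.base z = q) :
    ∃ f : PrimeSpectrum A → K, (∀ z (hz : z ∈ U), f (π.base z) = value hZ K a z hz) ∧
      ∀ q ∈ W, ∃ V : Set (PrimeSpectrum A), IsOpen V ∧ q ∈ V ∧ ∀ q' ∈ V ∩ W, f q' = f q := by
  classical
  let f : PrimeSpectrum A → K := fun q =>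
    if h : ∃ z, z ∈ U ∧ π.base z = q then value hZ K a h.choose h.choose_spec.1 else 0
  have key : ∀ z (hz : z ∈ U), f (π.base z) = value hZ K a z hz := fun z hz => by
    have h : ∃ z', z' ∈ U ∧ π.base z' = π.base z := ⟨z, hz, rfl⟩
    show dite _ _ _ = _
    rw [dif_pos h]
    have e : ∀ z', z' = z → ∀ hz' : z' ∈ U, value hZ K a z' hz' = value hZ K a z hz := by
      rintro z' rfl hz'
      rfl
    exact e _ (hZ.1.injective h.choose_spec.2) _
  refine ⟨f, key, fun q hq => ?_⟩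
  obtain ⟨z, hz, rfl⟩ := hW q hq
  obtain ⟨V, hzV, hV⟩ := exists_nhd_value hZ K a z hz
  obtain ⟨V', hV', hVV'⟩ := hZ.1.isInducing.isOpen_iff.mp V.2
  refine ⟨V', hV', (Set.ext_iff.1 hVV' z).2 hzV, ?_⟩
  rintro q' ⟨hq'V, hq'W⟩
  obtain ⟨z', hz', rfl⟩ := hW q' hq'W
  obtain ⟨_, e⟩ := hV z' ((Set.ext_iff.1 hVV' z').1 hq'V)
  rw [key z' hz', key z hz]
  exact e

end Spectrum

set_option backward.isDefEq.respectTransparency true
set_option backward.isDefEq.respectTransparency.types true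

theorem main
    (R : Type) [CommRing R] [Algebra P2 R] (hR : Hens2.IsPairHenselization P2 Itri R)
    (K : Type) [Field K] [Algebra P2 K] [NoZeroSMulDivisors P2 K] [IsAlgClosure P2 K]
    [Algebra R K] [IsScalarTower P2 R K] (hinj : Function.Injective (algebraMap R K))
    (Z : LocallyRingedSpace.{0}) (π : Z ⟶ HensSch.specLRS (integralClosure R K))
    (hZ : HensSch.IsSph (integralClosure R K)
      (Ideal.map (algebraMap R (integralClosure R K)) (Ideal.map (algebraMap P2 R) Itri)) Z π) :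
    HenselianRing (integralClosure R K)
      (Ideal.map (algebraMap R (integralClosure R K)) (Ideal.map (algebraMap P2 R) Itri)) ∧
    Nontrivial (ModSite.HC Z.sheaf (ModSite.unit Z.sheaf) 1) := by
  let A := integralClosure R K
  haveI := hR.1
  haveI hHA : HenselianRing A (Ideal.map (algebraMap R A) (Ideal.map (algebraMap P2 R) Itri)) :=
    HenselLib.henselianRing_map_of_isIntegral
  refine ⟨hHA, ?_⟩
  haveI : IsDomain R := hinj.isDomain _
  haveI : IsIntegrallyClosed R := isIntegrallyClosed_of_isInd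
    (HensVanLib.isInd (A := P2) (A' := P2) (I := Itri) (by rwa [Algebra.algebraMap_self, Ideal.map_id]))
  haveI : IsAlgClosed K := IsAlgClosure.isAlgClosed P2
  haveI : Algebra.IsAlgebraic P2 K := IsAlgClosure.isAlgebraic
  haveI : FaithfulSMul R K := (faithfulSMul_iff_algebraMap_injective R K).2 hinj
  have hPR : Function.Injective (algebraMap P2 R) := fun a b h => by
    have := congrArg (algebraMap R K) h
    rw [← IsScalarTower.algebraMap_apply, ← IsScalarTower.algebraMap_apply] at this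
    exact FaithfulSMul.algebraMap_injective P2 K this
  haveI : FaithfulSMul P2 R := (faithfulSMul_iff_algebraMap_injective P2 R).2 hPR
  haveI : Algebra.IsAlgebraic R K := Algebra.IsAlgebraic.extendScalars hPR
  haveI : CharZero K := charZero_of_injective_algebraMap (FaithfulSMul.algebraMap_injective P2 K)
  let L := FractionRing R
  letI : Algebra L K := FractionRing.liftAlgebra R K
  haveI : Algebra.IsAlgebraic L K := Algebra.IsAlgebraic.extendScalars (IsFractionRing.injective R L)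
  haveI : CharZero L := ((algebraMap L K).charZero_iff (algebraMap L K).injective).2 inferInstance
  haveI : IsAlgClosure L K := ⟨inferInstance, inferInstance⟩
  haveI : IsGalois L K := { to_isSeparable := Algebra.IsAlgebraic.isSeparable_of_perfectField
                            to_normal := IsAlgClosure.normal L K }
  haveI : IsFractionRing A K := integralClosure.isFractionRing_of_algebraic fun x hx => hinj (hx.trans (map_zero _).symm)
  haveI : IsIntegrallyClosed A := (isIntegrallyClosed_iff K).2 fun {x} hx => ⟨⟨x, isIntegral_trans x hx⟩, rfl⟩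
  haveI : IsAlgClosed (FractionRing A) := IsAlgClosed.of_ringEquiv K _ (FractionRing.algEquiv A K).symm.toRingEquiv
  rw [← not_subsingleton_iff_nontrivial]
  intro hH
  -- the data
  let gR : P2 → R := algebraMap P2 R
  let gA : P2 → A := fun v => algebraMap R A (algebraMap P2 R v)
  have hgA : ∀ v w, gA (v * w) = gA v * gA w := fun v w => by simp only [gA, map_mul]
  have hnot : ∀ (z : Z) (v : P2), z ∈ HensSch.dOpen π (gA v) ↔ gA v ∉ (π.base z : PrimeSpectrum A).asIdeal :=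
    fun z v => Iff.rfl
  have hzero : ∀ z : Z, gA (X 0 * X 1 * pz) ∈ (π.base z : PrimeSpectrum A).asIdeal := fun z => by
    have h : (π.base z : PrimeSpectrum A) ∈ PrimeSpectrum.zeroLocus
        ((Ideal.map (algebraMap R A) (Ideal.map (algebraMap P2 R) Itri) : Ideal A) : Set A) := hZ.2.1 ▸ ⟨z, rfl⟩
    exact h (Ideal.mem_map_of_mem _ (Ideal.mem_map_of_mem _ (Ideal.mem_span_singleton_self _)))
  let Dx := HensSch.dOpen π (gA (X 0))
  let Dy := HensSch.dOpen π (gA (X 1))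
  let Dz := HensSch.dOpen π (gA pz)
  let U₁ : Opens Z.toTopCat := Dx ⊔ Dy
  let U₂ : Opens Z.toTopCat := Dz ⊔ Dx ⊓ Dy
  let Wa : Opens Z.toTopCat := Dy ⊓ Dz
  let Wb : Opens Z.toTopCat := Dx ⊓ Dz ⊔ Dx ⊓ Dy
  have hdisj3 : ∀ z, z ∈ Dx → z ∈ Dy → z ∈ Dz → False := fun z h1 h2 h3 => by
    have := hzero z
    rw [hgA, hgA] at this
    rcases (π.base z : PrimeSpectrum A).isPrime.mem_or_mem this with h | h
    · rcases (π.base z : PrimeSpectrum A).isPrime.mem_or_mem h with h | h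
      · exact h1 h
      · exact h2 h
    · exact h3 h
  have hcov : U₁ ⊔ U₂ = ⊤ := top_le_iff.1 fun z _ => by
    by_cases hx : z ∈ Dx
    · exact Or.inl (Or.inl hx)
    by_cases hy : z ∈ Dy
    · exact Or.inl (Or.inr hy)
    refine Or.inr (Or.inl fun hz => (π.base z : PrimeSpectrum A).isPrime.ne_top ((Ideal.eq_top_iff_one _).2 ?_))
    have hx' : gA (X 0) ∈ (π.base z : PrimeSpectrum A).asIdeal := not_not.1 hx
    have hy' : gA (X 1) ∈ (π.base z : PrimeSpectrum A).asIdeal := not_not.1 hy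
    have h1 := Ideal.sub_mem _ (Ideal.add_mem _ hx' hy') hz
    convert h1 using 1
    simp only [gA, pz, map_sub, map_add, map_one]
    ring
  obtain ⟨s₀, hs1, hs0⟩ := exists_indicator hZ Wa Wb fun z h1 h2 => by
    rcases h2 with h2 | h2
    · exact hdisj3 z h2.1 h1.1 h1.2
    · exact hdisj3 z h2.1 h2.2 h1.2
  have h12 : U₁ ⊓ U₂ ≤ Wa ⊔ Wb := by
    rintro z ⟨h1, h2⟩
    rcases h2 with h2 | h2
    · rcases h1 with h1 | h1
      · exact Or.inr (Or.inl ⟨h1, h2⟩)
      · exact Or.inl ⟨h1, h2⟩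
    · exact Or.inr (Or.inr h2)
  obtain ⟨a, b, hab⟩ := exists_diff hZ hH U₁ U₂ hcov (res π h12 s₀)
  -- the sets in the base
  let W₁ : Set (PrimeSpectrum R) := {P | gR (X 0 * X 1 * pz) ∈ P.asIdeal ∧ (gR (X 0) ∉ P.asIdeal ∨ gR (X 1) ∉ P.asIdeal)}
  let W₂ : Set (PrimeSpectrum R) := {P | gR (X 0 * X 1 * pz) ∈ P.asIdeal ∧
    (gR pz ∉ P.asIdeal ∨ (gR (X 0) ∉ P.asIdeal ∧ gR (X 1) ∉ P.asIdeal))}
  have hrange : ∀ q : PrimeSpectrum A, gA (X 0 * X 1 * pz) ∈ q.asIdeal → ∃ z, π.base z = q := fun q hq => by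
    have h : q ∈ PrimeSpectrum.zeroLocus
        ((Ideal.map (algebraMap R A) (Ideal.map (algebraMap P2 R) Itri) : Ideal A) : Set A) := by
      rw [PrimeSpectrum.mem_zeroLocus, SetLike.coe_subset_coe, Ideal.map_le_iff_le_comap, Ideal.map_le_iff_le_comap,
        Ideal.span_le, Set.singleton_subset_iff]
      exact hq
    rwa [← hZ.2.1] at h
  have hW₁ : IsCompact (res₀ K ⁻¹' W₁) := by
    rw [show res₀ K ⁻¹' W₁ = PrimeSpectrum.zeroLocus {gA (X 0 * X 1 * pz)} ∩
      ((PrimeSpectrum.basicOpen (gA (X 0)) : Set (PrimeSpectrum A)) ∪ PrimeSpectrum.basicOpen (gA (X 1))) from ?_]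
    · exact ((PrimeSpectrum.isCompact_basicOpen _).union (PrimeSpectrum.isCompact_basicOpen _)).inter_left
        (PrimeSpectrum.isClosed_zeroLocus _)
    · ext q
      rw [Set.mem_inter_iff, PrimeSpectrum.mem_zeroLocus, Set.singleton_subset_iff]
      rfl
  have hW₂ : IsCompact (res₀ K ⁻¹' W₂) := by
    rw [show res₀ K ⁻¹' W₂ = PrimeSpectrum.zeroLocus {gA (X 0 * X 1 * pz)} ∩
      ((PrimeSpectrum.basicOpen (gA pz) : Set (PrimeSpectrum A)) ∪ PrimeSpectrum.basicOpen (gA (X 0) * gA (X 1))) from ?_]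
    · exact ((PrimeSpectrum.isCompact_basicOpen _).union (PrimeSpectrum.isCompact_basicOpen _)).inter_left
        (PrimeSpectrum.isClosed_zeroLocus _)
    · ext q
      rw [Set.mem_inter_iff, PrimeSpectrum.mem_zeroLocus, Set.singleton_subset_iff, PrimeSpectrum.basicOpen_mul]
      rfl
  obtain ⟨f₁, hf₁, hl₁⟩ := exists_fun hZ K (res₀ K ⁻¹' W₁) a fun q hq => by
    obtain ⟨z, rfl⟩ := hrange q hq.1
    exact ⟨z, hq.2, rfl⟩
  obtain ⟨f₂, hf₂, hl₂⟩ := exists_fun hZ K (res₀ K ⁻¹' W₂) b fun q hq => by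
    obtain ⟨z, rfl⟩ := hrange q hq.1
    exact ⟨z, hq.2, rfl⟩
  obtain ⟨n, H₁, H₂, hn, hm₁, hm₂, hd⟩ := exists_average L K hinj W₁ W₂ hW₁ hW₂ f₁ f₂ hl₁ hl₂
  -- the points
  let t : Polynomial ℂ := Polynomial.X
  have hxx : evP (0 : Polynomial ℂ) t (X 0 * X 1 * pz) = 0 := evP_zero _ _ (by ring)
  have hyy : evP t (0 : Polynomial ℂ) (X 0 * X 1 * pz) = 0 := evP_zero _ _ (by ring)
  have hzz : evP t (1 - t) (X 0 * X 1 * pz) = 0 := evP_zero _ _ (by ring)
  have h01 : evP (0 : ℂ) 1 (X 0 * X 1 * pz) = 0 := evP_zero _ _ (by ring)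
  have h10 : evP (1 : ℂ) 0 (X 0 * X 1 * pz) = 0 := evP_zero _ _ (by ring)
  have h00 : evP (0 : ℂ) 0 (X 0 * X 1 * pz) = 0 := evP_zero _ _ (by ring)
  let ηx := pt hR _ hxx
  let ηy := pt hR _ hyy
  let ηz := pt hR _ hzz
  let p01 := pt hR _ h01
  let p10 := pt hR _ h10
  let p00 := pt hR _ h00
  have hmemI : ∀ {D : Type} [CommRing D] [IsDomain D] (φ : P2 →+* D) (hφ : φ (X 0 * X 1 * pz) = 0),
      gR (X 0 * X 1 * pz) ∈ (pt hR φ hφ).asIdeal := fun φ hφ => (mem_pt_iff hR φ hφ _).2 hφ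
  have ht : (t : Polynomial ℂ) ≠ 0 := Polynomial.X_ne_zero
  have ht1 : (0 : Polynomial ℂ) + t - 1 ≠ 0 := fun h => by
    have := congrArg (Polynomial.eval 0) h
    simp [t] at this
  have ht2 : t + (0 : Polynomial ℂ) - 1 ≠ 0 := fun h => by
    have := congrArg (Polynomial.eval 0) h
    simp [t] at this
  have nx : gR (X 0) ∉ ηy.asIdeal := by rw [mem_pt_iff, evP_X0]; exact ht
  have ny : gR (X 1) ∉ ηx.asIdeal := by rw [mem_pt_iff, evP_X1]; exact ht
  have nz : gR (X 0) ∉ ηz.asIdeal := by rw [mem_pt_iff, evP_X0]; exact ht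
  have w1x : ηx ∈ W₁ := ⟨hmemI _ hxx, Or.inr ny⟩
  have w2x : ηx ∈ W₂ := ⟨hmemI _ hxx, Or.inl (by rw [mem_pt_iff, evP_pz]; exact ht1)⟩
  have w1y : ηy ∈ W₁ := ⟨hmemI _ hyy, Or.inl nx⟩
  have w2y : ηy ∈ W₂ := ⟨hmemI _ hyy, Or.inl (by rw [mem_pt_iff, evP_pz]; exact ht2)⟩
  have w1z : ηz ∈ W₁ := ⟨hmemI _ hzz, Or.inl nz⟩
  have w01 : p01 ∈ W₁ := ⟨hmemI _ h01, Or.inr (by rw [mem_pt_iff, evP_X1]; exact one_ne_zero)⟩
  have w10 : p10 ∈ W₁ := ⟨hmemI _ h10, Or.inl (by rw [mem_pt_iff, evP_X0]; exact one_ne_zero)⟩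
  have w00 : p00 ∈ W₂ := ⟨hmemI _ h00, Or.inl (by rw [mem_pt_iff, evP_pz]; simp)⟩
  have x01 : ηx.asIdeal ≤ p01.asIdeal := pt_le hR _ hxx _ h01 _ ((comp_evP 1 _ _).trans (by simp [t]))
  have z01 : ηz.asIdeal ≤ p01.asIdeal := pt_le hR _ hzz _ h01 _ ((comp_evP 0 _ _).trans (by simp [t]))
  have z10 : ηz.asIdeal ≤ p10.asIdeal := pt_le hR _ hzz _ h10 _ ((comp_evP 1 _ _).trans (by simp [t]))
  have y10 : ηy.asIdeal ≤ p10.asIdeal := pt_le hR _ hyy _ h10 _ ((comp_evP 1 _ _).trans (by simp [t]))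
  have x00 : ηx.asIdeal ≤ p00.asIdeal := pt_le hR _ hxx _ h00 _ ((comp_evP 0 _ _).trans (by simp [t]))
  have y00 : ηy.asIdeal ≤ p00.asIdeal := pt_le hR _ hyy _ h00 _ ((comp_evP 0 _ _).trans (by simp [t]))
  -- values
  have hval : ∀ (q : PrimeSpectrum A) (z : Z) (hz₁ : z ∈ U₁) (hz₂ : z ∈ U₂), π.base z = q →
      f₁ q - f₂ q = value hZ K (res π h12 s₀) z ⟨hz₁, hz₂⟩ := by
    rintro q z hz₁ hz₂ rfl
    rw [hf₁ z hz₁, hf₂ z hz₂, ← hab]
    show _ = stkVal hZ K z (germA π z _ (res π inf_le_left a - res π inf_le_right b))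
    rw [map_sub, map_sub]
    exact (congrArg₂ (· - ·) (value_res hZ K inf_le_left a z ⟨hz₁, hz₂⟩) (value_res hZ K inf_le_right b z ⟨hz₁, hz₂⟩)).symm
  have ex : H₁ ηx - H₂ ηx = n • (1 : K) := by
    refine hd ηx 1 w1x w2x fun q hq => ?_
    obtain ⟨z, rfl⟩ := hrange q (show gR (X 0 * X 1 * pz) ∈ (res₀ K q).asIdeal by rw [hq]; exact w1x.1)
    have hy : z ∈ Dy := fun h => ny (by rw [← hq]; exact h)
    have hz : z ∈ Dz := fun h => (by rw [mem_pt_iff, evP_pz]; exact ht1 : gR pz ∉ ηx.asIdeal) (by rw [← hq]; exact h)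
    have hz₁ : z ∈ U₁ := Or.inr hy
    have hz₂ : z ∈ U₂ := Or.inl hz
    refine (hval _ z hz₁ hz₂ rfl).trans ((value_res hZ K h12 s₀ z ⟨hz₁, hz₂⟩).trans
      ((value_res hZ K (le_sup_left : Wa ≤ Wa ⊔ Wb) s₀ z ⟨hy, hz⟩).symm.trans ?_))
    rw [hs1]
    show stkVal hZ K z (germA π z _ 1) = 1
    rw [map_one, map_one]
  have ey : H₁ ηy - H₂ ηy = n • (0 : K) := by
    refine hd ηy 0 w1y w2y fun q hq => ?_
    obtain ⟨z, rfl⟩ := hrange q (show gR (X 0 * X 1 * pz) ∈ (res₀ K q).asIdeal by rw [hq]; exact w1y.1)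
    have hx : z ∈ Dx := fun h => nx (by rw [← hq]; exact h)
    have hz : z ∈ Dz := fun h => (by rw [mem_pt_iff, evP_pz]; exact ht2 : gR pz ∉ ηy.asIdeal) (by rw [← hq]; exact h)
    have hz₁ : z ∈ U₁ := Or.inl hx
    have hz₂ : z ∈ U₂ := Or.inl hz
    refine (hval _ z hz₁ hz₂ rfl).trans ((value_res hZ K h12 s₀ z ⟨hz₁, hz₂⟩).trans
      ((value_res hZ K (le_sup_right : Wb ≤ Wa ⊔ Wb) s₀ z (Or.inl ⟨hx, hz⟩)).symm.trans ?_))
    rw [hs0]
    show stkVal hZ K z (germA π z _ 0) = 0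
    rw [map_zero, map_zero]
  have e1 : H₁ ηx = H₁ ηy := by
    rw [hm₁ _ _ x01 w1x w01, ← hm₁ _ _ z01 w1z w01, hm₁ _ _ z10 w1z w10, ← hm₁ _ _ y10 w1y w10]
  have e2 : H₂ ηx = H₂ ηy := by rw [hm₂ _ _ x00 w2x w00, ← hm₂ _ _ y00 w2y w00]
  rw [e1, e2, ey, smul_zero, nsmul_one] at ex
  exact hn.ne' (Nat.cast_eq_zero.1 ex.symm)

end HensNonVanLib
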