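import Groth.Agent.HensVanLib.Jmap
import Groth.Agent.HensSchLib.Flat
import Groth.Agent.HenselLib.SmoothLift
import Groth.Agent.S0254
import Mathlib.RingTheory.Unramified.Field
import Mathlib.RingTheory.Unramified.Finite

/-!
# Stalks of the henselian spectrum of a normal domain with algebraically closed fraction field
-/

set_option autoImplicit false
set_option linter.unusedSectionVars false
set_option linter.style.haveILetI false
set_option backward.isDefEq.respectTransparency false
set_option backward.isDefEq.respectTransparency.types false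
set_option maxHeartbeats 1000000
set_option synthInstance.maxHeartbeats 400000

universe u

open CategoryTheory AlgebraicGeometry Opposite TopologicalSpace TensorProduct IsLocalRing

noncomputable section

namespace HensNonVanLib

/-- Maps out of an étale algebra into a local ring agreeing in the residue field are equal. -/
theorem eq_of_residue {A : Type u} [CommRing A] {U : Type u} [CommRing U] [Algebra A U] [Algebra.Etale A U]
    {S : Type u} [CommRing S] [IsLocalRing S] [Algebra A S] (f g : U →ₐ[A] S)
    (h : ∀ x, residue S (f x) = residue S (g x)) : f = g := by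
  let E : U ⊗[A] U →ₐ[A] S := Algebra.TensorProduct.lift f g fun _ _ => Commute.all _ _
  have hres : ∀ z, residue S (E z) = residue S (g (Algebra.TensorProduct.lmul' A z)) := fun z => by
    induction z using TensorProduct.induction_on with
    | zero => simp only [map_zero]
    | add a b ha hb => simp only [map_add, ha, hb]
    | tmul a b =>
      rw [Algebra.TensorProduct.lmul'_apply_tmul, map_mul g, map_mul (residue S)]
      show residue S (E (a ⊗ₜ b)) = _
      rw [Algebra.TensorProduct.lift_tmul, map_mul, h a]
  have hu : IsUnit (E (Algebra.FormallyUnramified.elem A U)) := by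
    refine IsUnit.of_map (residue S) _ ?_
    rw [hres, Algebra.FormallyUnramified.lmul_elem, map_one, map_one]
    exact isUnit_one
  refine AlgHom.ext fun x => ?_
  have h1 := congrArg E (Algebra.FormallyUnramified.one_tmul_sub_tmul_one_mul_elem (R := A) x)
  rw [map_mul, map_zero, map_sub, Algebra.TensorProduct.lift_tmul, Algebra.TensorProduct.lift_tmul, map_one f,
    map_one g, one_mul, mul_one, hu.mul_left_eq_zero, sub_eq_zero] at h1
  exact h1.symm

/-- A point of an étale algebra in an extension of a separably closed field is rational. -/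
theorem mem_range_of_etale {k : Type u} [Field k] [IsSepClosed k] {T : Type u} [CommRing T] [Algebra k T]
    [Algebra.Etale k T] {k' : Type u} [Field k'] [Algebra k k'] (θ : T →ₐ[k] k') (x : T) :
    θ x ∈ (algebraMap k k').range := by
  let P := RingHom.ker θ.toRingHom
  haveI : P.IsPrime := RingHom.ker_isPrime _
  haveI : Algebra.FormallyUnramified k (T ⧸ P) :=
    Algebra.FormallyUnramified.of_surjective (Ideal.Quotient.mkₐ k P) (Ideal.Quotient.mkₐ_surjective k P)
  haveI : Module.Finite k T := Algebra.FormallyUnramified.finite_of_free k T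
  haveI : Algebra.IsIntegral k (T ⧸ P) := inferInstance
  letI : Field (T ⧸ P) := (isField_of_isIntegral_of_isField' (Field.toIsField k)).toField
  haveI : Algebra.IsSeparable k (T ⧸ P) := Algebra.FormallyUnramified.isSeparable k (T ⧸ P)
  obtain ⟨c, hc⟩ := IsSepClosed.algebraMap_surjective k (T ⧸ P) (Ideal.Quotient.mk P x)
  refine ⟨c, ?_⟩
  rw [← AlgHom.commutes θ]
  have hc' : algebraMap k T c - x ∈ P := Ideal.Quotient.eq.1 hc
  exact sub_eq_zero.1 (by rw [← map_sub]; exact hc')

/-- Points of étale algebras lift to strictly henselian local rings. -/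
theorem exists_lift {A : Type u} [CommRing A] {R : Type u} [CommRing R] [HenselianLocalRing R]
    [IsSepClosed (ResidueField R)] [Algebra A R] {U : Type u} [CommRing U] [Algebra A U] [Algebra.Etale A U]
    {k' : Type u} [Field k'] (ι : ResidueField R →+* k') (θ : U →+* k')
    (hθ : ∀ a, θ (algebraMap A U a) = ι (residue R (algebraMap A R a))) :
    ∃ σ : U →ₐ[A] R, ∀ x, ι (residue R (σ x)) = θ x := by
  letI : Algebra (ResidueField R) k' := ι.toAlgebra
  letI : Algebra A k' := (ι.comp ((residue R).comp (algebraMap A R))).toAlgebra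
  haveI : IsScalarTower A (ResidueField R) k' := IsScalarTower.of_algebraMap_eq' rfl
  let θA : U →ₐ[A] k' := { θ with commutes' := hθ }
  let θk : (ResidueField R) ⊗[A] U →ₐ[(ResidueField R)] k' := Algebra.TensorProduct.lift (Algebra.ofId (ResidueField R) k') θA fun _ _ => Commute.all _ _
  have hmem : ∀ x, θ x ∈ ι.range := fun x => by
    have := mem_range_of_etale θk (1 ⊗ₜ x)
    rw [Algebra.TensorProduct.lift_tmul, map_one, one_mul] at this
    exact this
  choose τ hτ using hmem
  have hI : HenselianRing R (maximalIdeal R) := ⟨(jacobson_eq_maximalIdeal (⊥ : Ideal R) bot_ne_top).ge,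
    fun f hf a₀ h₁ h₂ => HenselianLocalRing.is_henselian f hf a₀ h₁ (IsUnit.of_map (residue R) _ h₂)⟩
  haveI := hI
  let τ' : U →+* ResidueField R :=
    { toFun := τ
      map_one' := ι.injective (by rw [hτ, map_one, map_one])
      map_mul' := fun a b => ι.injective (by rw [hτ, map_mul, map_mul, hτ, hτ])
      map_zero' := ι.injective (by rw [hτ, map_zero, map_zero])
      map_add' := fun a b => ι.injective (by rw [hτ, map_add, map_add, hτ, hτ]) }
  let σ₀ : R ⊗[A] U →ₐ[R] R ⧸ maximalIdeal R :=
    Algebra.TensorProduct.lift (Algebra.ofId R (R ⧸ maximalIdeal R))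
      ({ τ' with commutes' := fun a => ι.injective ((hτ _).trans (hθ a)) } : U →ₐ[A] R ⧸ maximalIdeal R)
      fun _ _ => Commute.all _ _
  obtain ⟨σ, hσ⟩ := HenselLib.etaleLifts_of_henselianRing (R ⊗[A] U) σ₀
  refine ⟨(σ.restrictScalars A).comp Algebra.TensorProduct.includeRight, fun x => ?_⟩
  have h := AlgHom.congr_fun hσ (1 ⊗ₜ x)
  rw [show σ₀ (1 ⊗ₜ x) = τ' x from (Algebra.TensorProduct.lift_tmul _ _ _ _ _).trans (by rw [map_one, one_mul]; rfl)] at h
  exact (congrArg ι h).trans (hτ x)

/-- An integrally closed local domain with separably closed fraction field is strictly henselian. -/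
theorem strictlyHenselian_of_fractionField (R : Type u) [CommRing R] [IsDomain R] [IsLocalRing R] [IsIntegrallyClosed R]
    (K : Type u) [Field K] [Algebra R K] [IsFractionRing R K] [IsSepClosed K] :
    HenselianLocalRing R ∧ IsSepClosed (ResidueField R) := by
  haveI : IsSepClosed (FractionRing R) := by
    let e := (FractionRing.algEquiv R K).toRingEquiv
    refine IsSepClosed.of_exists_root _ fun f hf hirr hsep => ?_
    obtain ⟨x, hx⟩ := IsSepClosed.exists_root (f.map e.toRingHom)
      (by rw [Polynomial.degree_map]; exact (Polynomial.degree_pos_of_irreducible hirr).ne') hsep.map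
    refine ⟨e.symm x, e.injective ?_⟩
    rw [map_zero]
    show e.toRingHom _ = 0
    rw [← Polynomial.eval₂_at_apply, ← Polynomial.eval_map]
    show (f.map e.toRingHom).eval (e (e.symm x)) = 0
    rw [RingEquiv.apply_symm_apply]
    exact hx
  exact Groth.Agent.S0254.result R

section Stalk

open HensGlueLib

variable {A : Type u} [CommRing A] {I : Ideal A} [HenselianRing A I] {Z : LocallyRingedSpace.{u}}
  {π : Z ⟶ HensSch.specLRS A}

theorem isUnit_algebraMap_stk (z : Z) {a : A} (ha : a ∉ (π.base z : PrimeSpectrum A).asIdeal) :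
    IsUnit (algebraMap A (Stk π z) a) := by
  show IsUnit (HensSchLib.secStalk π z a)
  rw [← HensSchLib.germ_secMap ⊤ z trivial a]
  exact (HensSchLib.isUnit_germ_secMap_iff π ⊤ z trivial a).2 ha

theorem not_isUnit_algebraMap_stk (z : Z) {a : A} (ha : a ∈ (π.base z : PrimeSpectrum A).asIdeal) :
    ¬ IsUnit (algebraMap A (Stk π z) a) := by
  show ¬ IsUnit (HensSchLib.secStalk π z a)
  rw [← HensSchLib.germ_secMap ⊤ z trivial a]
  exact fun h => (HensSchLib.isUnit_germ_secMap_iff π ⊤ z trivial a).1 h ha

variable (π) in
/-- The comparison map of local rings. -/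
def loc (z : Z) : Localization.AtPrime (π.base z : PrimeSpectrum A).asIdeal →ₐ[A] Stk π z :=
  IsLocalization.liftAlgHom (M := (π.base z : PrimeSpectrum A).asIdeal.primeCompl) (f := Algebra.ofId A (Stk π z))
    fun y => isUnit_algebraMap_stk z y.2

theorem loc_mk' (z : Z) (a : A) (g : (π.base z : PrimeSpectrum A).asIdeal.primeCompl) :
    algebraMap A (Stk π z) g * loc π z (IsLocalization.mk' _ a g) = algebraMap A (Stk π z) a := by
  rw [← AlgHom.commutes (loc π z) (g : A), ← map_mul, IsLocalization.mk'_spec', AlgHom.commutes]

variable (hZ : HensSch.IsSph A I Z π) [IsDomain A] [IsIntegrallyClosed A]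
include hZ

theorem bijective_loc [IsSepClosed (FractionRing A)] (z : Z) : Function.Bijective (loc π z) := by
  let p : Ideal A := (π.base z : PrimeSpectrum A).asIdeal
  let R := Localization.AtPrime p
  haveI : IsLocalRing (Stk π z) := inferInstanceAs (IsLocalRing (Z.presheaf.stalk z))
  haveI : IsIntegrallyClosed R := isIntegrallyClosed_of_isLocalization R p.primeCompl p.primeCompl_le_nonZeroDivisors
  haveI : IsDomain R := IsLocalization.isDomain_localization p.primeCompl_le_nonZeroDivisors
  haveI : IsFractionRing R (FractionRing A) :=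
    IsFractionRing.isFractionRing_of_isDomain_of_isLocalization p.primeCompl R (FractionRing A)
  obtain ⟨hhens, hsc⟩ := strictlyHenselian_of_fractionField R (FractionRing A)
  haveI := hhens
  haveI := hsc
  refine ⟨(injective_iff_map_eq_zero _).2 fun r hr => ?_, fun s => ?_⟩
  · obtain ⟨a, g, rfl⟩ := IsLocalization.exists_mk'_eq p.primeCompl r
    have h := loc_mk' z a g
    rw [hr, mul_zero] at h
    by_contra hne
    have ha : a ≠ 0 := fun ha => hne (by rw [ha, IsLocalization.mk'_zero])
    haveI : Module.Flat A (Stk π z) := HensSchLib.flat_secStalk hZ z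
    exact one_ne_zero ((IsSMulRegular.of_flat (S := Stk π z) (IsSMulRegular.of_ne_zero ha))
      (show algebraMap A (Stk π z) a • (1 : Stk π z) = algebraMap A (Stk π z) a • 0 by
        rw [smul_eq_mul, smul_eq_mul, mul_one, mul_zero, ← h]))
  · obtain ⟨f, hzf, -, t, ht⟩ := HensSchLib.exists_dOpen_germ_eq hZ z s ⊤ trivial
    obtain ⟨U, _, _, _, φ, u, hu⟩ := (HensVanLib.isInd_Sf hZ f).surj (show HensVanLib.Sf π f from t)
    let ψ : U →ₐ[A] Stk π z := (germA π z hzf).comp φ
    haveI : IsLocalHom ((loc π z).toRingHom) := ⟨fun r hr => by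
      obtain ⟨a, g, rfl⟩ := IsLocalization.exists_mk'_eq p.primeCompl r
      have h : IsUnit (algebraMap A (Stk π z) a) := by
        rw [← loc_mk' z a g]
        exact (isUnit_algebraMap_stk z g.2).mul hr
      exact (IsLocalization.AtPrime.isUnit_mk'_iff R p a g).2 fun ha => not_isUnit_algebraMap_stk z ha h⟩
    obtain ⟨σ, hσ⟩ := exists_lift (A := A) (R := R) (ResidueField.map (loc π z).toRingHom)
      ((residue (Stk π z)).comp ψ.toRingHom) (fun a => by
        rw [ResidueField.map_residue]
        show residue (Stk π z) (ψ (algebraMap A U a)) = residue (Stk π z) (loc π z (algebraMap A R a))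
        rw [AlgHom.commutes, AlgHom.commutes])
    have h : (loc π z).comp σ = ψ := eq_of_residue _ _ fun x => by
      have := hσ x
      rw [ResidueField.map_residue] at this
      exact this
    refine ⟨σ u, ?_⟩
    rw [← AlgHom.comp_apply, h, ← ht, ← hu]
    rfl

end Stalk

end HensNonVanLib
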