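import Groth.Agent.HensNonVanLib.Stalk
import Groth.Agent.QCohLib.AbCoh

/-!
# Values of sections of the structure sheaf in the fraction field; Mayer-Vietoris
-/

set_option autoImplicit false
set_option linter.unusedSectionVars false
set_option linter.style.haveILetI false
set_option backward.isDefEq.respectTransparency false
set_option backward.isDefEq.respectTransparency.types false
set_option maxHeartbeats 1000000
set_option synthInstance.maxHeartbeats 400000

universe u

open CategoryTheory CategoryTheory.Abelian CategoryTheory.Limits AlgebraicGeometry Opposite TopologicalSpace HensGlueLib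

noncomputable section

namespace HensNonVanLib

open QCohLib in
/-- If the first cohomology vanishes, sections on an overlap of a two-piece cover are differences. -/
theorem exists_sub_eq {X : TopCat.{u}} (F : AbSh X) (h : Subsingleton (CategoryTheory.Sheaf.H F 1))
    (U V : Opens X) (hUV : U ⊔ V = ⊤) (s : F.obj.obj (op (U ⊓ V))) :
    ∃ (a : F.obj.obj (op U)) (b : F.obj.obj (op V)),
      F.obj.map (homOfLE (inf_le_left : U ⊓ V ≤ U)).op a - F.obj.map (homOfLE (inf_le_right : U ⊓ V ≤ V)).op b = s := by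
  have hS := mvSeq_shortExact U V
  have h1 : Subsingleton (HU F 1 (U ⊔ V)) := by
    rw [hUV]
    exact (subsingleton_H_iff F 1).1 h
  obtain ⟨x, hx⟩ := Ext.contravariant_sequence_exact₁ hS F (h0.symm s : HU F 0 (U ⊓ V)) (add_zero 1)
    (@Subsingleton.elim (HU F 1 (U ⊔ V)) h1 _ _)
  refine ⟨h0 ((Ext.mk₀ biprod.inl).comp x (zero_add 0)), h0 ((Ext.mk₀ biprod.inr).comp x (zero_add 0)), ?_⟩
  rw [← h0_res, ← h0_res, ← map_sub]
  refine (congrArg h0 ?_).trans (h0.apply_symm_apply s)
  refine Eq.trans ?_ hx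
  obtain ⟨φ, rfl⟩ : ∃ φ, Ext.mk₀ φ = x := (Ext.mk₀_bijective _ _).2 x
  rw [res_apply, res_apply, Ext.mk₀_comp_mk₀, Ext.mk₀_comp_mk₀, Ext.mk₀_comp_mk₀, Ext.mk₀_comp_mk₀,
    Ext.mk₀_comp_mk₀, sub_eq_add_neg, ← Ext.mk₀_neg, ← Ext.mk₀_add]
  refine congrArg Ext.mk₀ ?_
  show _ = biprod.lift (zmap (homOfLE inf_le_left : U ⊓ V ⟶ U)) (-zmap (homOfLE inf_le_right : U ⊓ V ⟶ V)) ≫ φ
  rw [biprod.lift_eq]
  simp only [Preadditive.add_comp, Category.assoc, Preadditive.neg_comp]

variable {A : Type u} [CommRing A] {I : Ideal A} [HenselianRing A I] {Z : LocallyRingedSpace.{u}}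
  {π : Z ⟶ HensSch.specLRS A} (hZ : HensSch.IsSph A I Z π) [IsDomain A] [IsIntegrallyClosed A]
  (K : Type u) [Field K] [Algebra A K] [IsFractionRing A K] [IsSepClosed (FractionRing A)]
include hZ

/-- The value of a germ in the fraction field. -/
def stkVal (z : Z) : Stk π z →ₐ[A] K :=
  (IsLocalization.liftAlgHom (M := (π.base z : PrimeSpectrum A).asIdeal.primeCompl) (f := Algebra.ofId A K)
      fun y => ((map_ne_zero_iff _ (IsFractionRing.injective A K)).2
        (show (y : A) ≠ 0 from fun h => y.2 (by rw [h]; exact zero_mem _))).isUnit :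
    Localization.AtPrime (π.base z : PrimeSpectrum A).asIdeal →ₐ[A] K).comp
    (AlgEquiv.ofBijective (loc π z) (bijective_loc hZ z)).symm.toAlgHom

theorem exists_num_den (z : Z) (r : Stk π z) :
    ∃ (a g : A), g ∉ (π.base z : PrimeSpectrum A).asIdeal ∧ algebraMap A (Stk π z) g * r = algebraMap A (Stk π z) a := by
  obtain ⟨q, rfl⟩ := (bijective_loc hZ z).2 r
  obtain ⟨a, g, rfl⟩ := IsLocalization.exists_mk'_eq (π.base z : PrimeSpectrum A).asIdeal.primeCompl q
  exact ⟨a, g, g.2, loc_mk' z a g⟩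

theorem stkVal_eq (z : Z) (r : Stk π z) {a g : A} (h : algebraMap A (Stk π z) g * r = algebraMap A (Stk π z) a) :
    algebraMap A K g * stkVal hZ K z r = algebraMap A K a := by
  rw [← AlgHom.commutes (stkVal hZ K z) g, ← map_mul, h, AlgHom.commutes]

/-- The value of a section at a point. -/
def value {U : Opens Z.toTopCat} (s : Sec π U) (z : Z) (hz : z ∈ U) : K := stkVal hZ K z (germA π z hz s)

theorem value_res {U V : Opens Z.toTopCat} (h : V ≤ U) (s : Sec π U) (z : Z) (hz : z ∈ V) :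
    value hZ K (res π h s) z hz = value hZ K s z (h hz) :=
  congrArg (stkVal hZ K z) (germA_res π h z hz s)

/-- Values are locally constant. -/
theorem exists_nhd_value {U : Opens Z.toTopCat} (s : Sec π U) (z : Z) (hz : z ∈ U) :
    ∃ V : Opens Z.toTopCat, z ∈ V ∧ ∀ z' (_ : z' ∈ V), ∃ hz' : z' ∈ U, value hZ K s z' hz' = value hZ K s z hz := by
  obtain ⟨a, g, hg, h⟩ := exists_num_den hZ z (germA π z hz s)
  have h' : (Z.presheaf.germ U z hz).hom (algebraMap A (Sec π U) g * s) =
      (Z.presheaf.germ U z hz).hom (algebraMap A (Sec π U) a) := by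
    show germA π z hz (algebraMap A (Sec π U) g * s) = germA π z hz (algebraMap A (Sec π U) a)
    rw [map_mul, AlgHom.commutes, AlgHom.commutes, h]
  obtain ⟨V, hV, i₁, i₂, hV'⟩ := Z.presheaf.germ_eq (C := CommRingCat) z hz hz _ _ h'
  refine ⟨V ⊓ HensSch.dOpen π g, ⟨hV, hg⟩, fun z' hz' => ⟨leOfHom i₁ hz'.1, ?_⟩⟩
  have h2 : germA π z' (leOfHom i₁ hz'.1) (algebraMap A (Sec π U) g * s) =
      germA π z' (leOfHom i₁ hz'.1) (algebraMap A (Sec π U) a) := by
    rw [← germA_res π (leOfHom i₁) z' hz'.1, ← germA_res π (leOfHom i₁) z' hz'.1]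
    exact congrArg (germA π z' hz'.1) hV'
  rw [map_mul, AlgHom.commutes, AlgHom.commutes] at h2
  have hg0 : algebraMap A K g ≠ 0 := (map_ne_zero_iff _ (IsFractionRing.injective A K)).2
    fun h0 => hg (by rw [h0]; exact zero_mem _)
  exact mul_left_cancel₀ hg0 ((stkVal_eq hZ K z' _ h2).trans (stkVal_eq hZ K z _ h).symm)

end HensNonVanLib
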